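import Cfsg.Agent.H830.B57.Defs

/-!
# S5717, A1 (helper486): the colouring tower

`col` : `K` transitive on a finite `Ω` such that every primitive action of a subgroup has a weak base of size `≤ b`, and
`c ≥ 2 b + 2`: there are `c` colourings of `Ω` with `c` colours such that `g` carries one of them to another one only if they
are equal and `g` acts trivially.
-/

set_option autoImplicit false

namespace Cfsg.Agent.H486.B57

open MulAction Cfsg.Agent.H830.B57

/-- the colourings -/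
def IsCol {K Ω : Type*} [Group K] [MulAction K Ω] {c : ℕ} (F : Fin c → Ω → Fin c) : Prop :=
  ∀ (i j : Fin c) (g : K), (∀ x : Ω, F i (g • x) = F j x) → i = j ∧ ∀ x : Ω, g • x = x

/-- at most `c - 1` points -/
theorem small {K Ω : Type*} [Group K] [MulAction K Ω] [Finite Ω] [Nonempty Ω] {c : ℕ} (hc : Nat.card Ω < c) :
    ∃ F : Fin c → Ω → Fin c, IsCol (K := K) F := by
  classical
  have : NeZero c := ⟨by omega⟩
  have hn : 0 < Nat.card Ω := Nat.card_pos
  let e : Ω ≃ Fin (Nat.card Ω) := Finite.equivFin Ω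
  let S : Set (ZMod c) := {z | ∃ x : Ω, z = ((e x : ℕ) : ZMod c)}
  let f : Fin c ≃ ZMod c := (ZMod.finEquiv c).toEquiv
  let F : Fin c → Ω → Fin c := fun i x => f.symm (f i + ((e x : ℕ) : ZMod c))
  have hF : ∀ i x, f (F i x) = f i + ((e x : ℕ) : ZMod c) := fun i x => f.apply_symm_apply _
  have hval : ∀ m : ℕ, m < c → ((m : ZMod c)).val = m := fun m hm => ZMod.val_natCast_of_lt hm
  have hinj : ∀ x y : Ω, ((e x : ℕ) : ZMod c) = ((e y : ℕ) : ZMod c) → x = y := by
    intro x y h
    have h1 := congrArg ZMod.val h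
    rw [hval _ (by have := (e x).2; omega), hval _ (by have := (e y).2; omega)] at h1
    exact e.injective (Fin.ext h1)
  have hS0 : (0 : ZMod c) ∈ S := ⟨e.symm ⟨0, hn⟩, by simp⟩
  have hS1 : (-1 : ZMod c) ∉ S := by
    rintro ⟨x, hx⟩
    have h1 : ((e x : ℕ) + 1 : ℕ) = (0 : ZMod c) := by
      push_cast
      rw [← hx]; ring
    rw [ZMod.natCast_eq_zero_iff] at h1
    have h2 := (e x).2
    have h3 := Nat.le_of_dvd (by omega) h1
    omega
  have hS : ∀ d : ZMod c, d ∈ S → d - 1 ∉ S → d = 0 := by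
    rintro d ⟨x, rfl⟩ hd
    rcases Nat.eq_zero_or_pos (e x : ℕ) with h | h
    · rw [h]; simp
    · exfalso
      apply hd
      refine ⟨e.symm ⟨(e x : ℕ) - 1, by have := (e x).2; omega⟩, ?_⟩
      rw [e.apply_symm_apply]
      push_cast [Nat.cast_sub (show 1 ≤ (e x : ℕ) from h)]
      ring
  refine ⟨F, fun i j g h => ?_⟩
  have h1 : ∀ x, f i + ((e (g • x) : ℕ) : ZMod c) = f j + ((e x : ℕ) : ZMod c) := by
    intro x
    rw [← hF, ← hF, h]
  have hij : i = j := by
    apply f.injective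
    have h2 : f i - f j ∈ S := by
      obtain ⟨x, hx⟩ : ∃ x, (e (g • x) : ℕ) = 0 := ⟨g⁻¹ • e.symm ⟨0, hn⟩, by rw [smul_inv_smul, e.apply_symm_apply]⟩
      refine ⟨x, ?_⟩
      have := h1 x
      rw [hx, Nat.cast_zero] at this
      linear_combination this
    have h3 : f i - f j - 1 ∉ S := by
      rintro ⟨x, hx⟩
      apply hS1
      refine ⟨g • x, ?_⟩
      have := h1 x
      rw [← hx] at this
      linear_combination -this
    exact sub_eq_zero.1 (hS _ h2 h3)
  refine ⟨hij, fun x => ?_⟩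
  have := h1 x
  rw [hij] at this
  exact hinj _ _ (add_left_cancel this)

/-- a weak base and many points -/
theorem large {K Ω : Type*} [Group K] [MulAction K Ω] [Finite Ω] {b c : ℕ} (hc : 2 * b + 2 ≤ c) (hn : c ≤ Nat.card Ω)
    (hB : BaseLE K Ω b) : ∃ F : Fin c → Ω → Fin c, IsCol (K := K) F := by
  classical
  have : Fintype Ω := Fintype.ofFinite _
  rw [Nat.card_eq_fintype_card] at hn
  obtain ⟨B, hBb, hB⟩ := hB
  -- labels of the base points
  obtain ⟨l⟩ : Nonempty (B ↪ Fin b) := Function.Embedding.nonempty_of_card_le (by simpa using hBb)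
  -- two points outside
  have hcompl : 1 < (Bᶜ : Finset Ω).card := by
    rw [Finset.card_compl]; omega
  obtain ⟨y₁, y₂, hy₁, hy₂, hy⟩ := Finset.one_lt_card_iff.1 hcompl
  rw [Finset.mem_compl] at hy₁ hy₂
  -- pairs of other colours
  obtain ⟨φ⟩ : Nonempty (Fin c ↪ Fin (c - b) × Fin (c - b)) := Function.Embedding.nonempty_of_card_le (by
    simp only [Fintype.card_fin, Fintype.card_prod]
    obtain ⟨e, he⟩ := Nat.exists_eq_add_of_le (show b ≤ c by omega)
    have h1 : c - b = e := by omega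
    rw [h1, he]
    nlinarith)
  let up : Fin (c - b) → Fin c := fun k => ⟨b + k, by have := k.2; omega⟩
  let lo : Fin b → Fin c := fun k => ⟨k, by have := k.2; omega⟩
  let F : Fin c → Ω → Fin c := fun i x =>
    if hx : x ∈ B then lo (l ⟨x, hx⟩) else if x = y₁ then up (φ i).1 else up (φ i).2
  have hFB : ∀ i x (hx : x ∈ B), F i x = lo (l ⟨x, hx⟩) := fun i x hx => dif_pos hx
  have hFl : ∀ i x, (F i x : ℕ) < b → x ∈ B := by
    intro i x h
    by_contra hx
    have h1 : F i x = if x = y₁ then up (φ i).1 else up (φ i).2 := dif_neg hx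
    rw [h1] at h
    split_ifs at h
    · have : (up (φ i).1 : ℕ) = b + (φ i).1 := rfl
      omega
    · have : (up (φ i).2 : ℕ) = b + (φ i).2 := rfl
      omega
  have hF1 : ∀ i, F i y₁ = up (φ i).1 := fun i => by
    change (if hx : y₁ ∈ B then _ else _) = _
    rw [dif_neg hy₁, if_pos rfl]
  have hF2 : ∀ i, F i y₂ = up (φ i).2 := fun i => by
    change (if hx : y₂ ∈ B then _ else _) = _
    rw [dif_neg hy₂, if_neg hy.symm]
  have hup : Function.Injective up := by
    intro k k' h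
    have h1 : (up k : ℕ) = (up k' : ℕ) := congrArg Fin.val h
    have h2 : (up k : ℕ) = b + k := rfl
    have h3 : (up k' : ℕ) = b + k' := rfl
    apply Fin.ext
    omega
  have hlo : Function.Injective lo := by
    intro k k' h
    have h1 : (lo k : ℕ) = (lo k' : ℕ) := congrArg Fin.val h
    exact Fin.ext h1
  refine ⟨F, fun i j g h => ?_⟩
  have hfix : ∀ x ∈ B, g • x = x := by
    intro x hx
    have h1 := h x
    rw [hFB j x hx] at h1
    have h2 : g • x ∈ B := hFl i _ (by rw [h1]; exact (l ⟨x, hx⟩).2)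
    rw [hFB i _ h2] at h1
    have h3 := l.injective (hlo h1)
    exact congrArg Subtype.val h3
  have htriv := hB g hfix
  refine ⟨?_, htriv⟩
  apply φ.injective
  apply Prod.ext
  · apply hup
    rw [← hF1, ← hF1, ← h, htriv]
  · apply hup
    rw [← hF2, ← hF2, ← h, htriv]

/-- the wreath product step -/
theorem tower {K Ω Γ : Type*} [Group K] [MulAction K Ω] [MulAction K Γ] {c : ℕ} (π : Ω → Γ)
    (hπ : ∀ (g : K) x, π (g • x) = g • π x) (γ₀ : Γ) (htr : ∀ γ : Γ, ∃ k : K, k • γ₀ = γ)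
    (φ : Fin c → Ω → Fin c)
    (hφ : ∀ (i j : Fin c) (g : K), g • γ₀ = γ₀ → (∀ x : Ω, π x = γ₀ → φ i (g • x) = φ j x) →
      i = j ∧ ∀ x : Ω, π x = γ₀ → g • x = x)
    (ψ : Fin c → Γ → Fin c) (hψ : IsCol (K := K) ψ) :
    ∃ F : Fin c → Ω → Fin c, IsCol (K := K) F := by
  choose k hk using htr
  have hk' : ∀ γ, (k γ)⁻¹ • γ = γ₀ := fun γ => by rw [inv_smul_eq_iff, hk]
  refine ⟨fun j x => φ (ψ j (π x)) ((k (π x))⁻¹ • x), fun i j g h => ?_⟩
  have key : ∀ γ : Γ, ψ i (g • γ) = ψ j γ ∧ ∀ y : Ω, π y = γ₀ → ((k (g • γ))⁻¹ * g * k γ) • y = y := by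
    intro γ
    refine hφ (ψ i (g • γ)) (ψ j γ) ((k (g • γ))⁻¹ * g * k γ) ?_ fun y hy => ?_
    · rw [mul_smul, hk, mul_smul, hk']
    · have h1 := h (k γ • y)
      have e1 : π (k γ • y) = γ := by rw [hπ, hy, hk]
      have e2 : π (g • k γ • y) = g • γ := by rw [hπ, e1]
      simp only [e1, e2, inv_smul_smul] at h1
      rw [mul_smul, mul_smul]
      exact h1
  obtain ⟨hij, hγ⟩ := hψ i j g fun γ => (key γ).1
  refine ⟨hij, fun x => ?_⟩
  have h1 := (key (π x)).2 ((k (π x))⁻¹ • x) (by rw [hπ, hk'])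
  rw [hγ, mul_smul, mul_smul, smul_inv_smul] at h1
  exact (smul_left_cancel _ h1)

theorem col_aux (b c : ℕ) (hc : 2 * b + 2 ≤ c) (n : ℕ) : ∀ (K Ω : Type) [Group K] [Finite K] [MulAction K Ω]
    [Finite Ω] [Nonempty Ω], MulAction.IsPretransitive K Ω →
    (∀ (L Δ : Type) [Group L] [Finite L] [MulAction L Δ] [Finite Δ] (f : L →* K),
      Function.Injective f → MulAction.IsPreprimitive L Δ → Nontrivial Δ →
      Nat.card Δ ≤ Nat.card Ω → BaseLE L Δ b) → Nat.card Ω = n →
    ∃ F : Fin c → Ω → Fin c, IsCol (K := K) F := by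
  induction n using Nat.strong_induction_on with
  | _ n ih =>
    intro K Ω _ _ _ _ _ htr h hn
    rcases lt_or_ge (Nat.card Ω) c with hlt | hge
    · exact small hlt
    have hnt : Nontrivial Ω := by
      rw [← Finite.one_lt_card_iff_nontrivial]
      omega
    by_cases hp : MulAction.IsPreprimitive K Ω
    · exact large hc hge (h K Ω (MonoidHom.id K) Function.injective_id hp hnt le_rfl)
    obtain ⟨ω⟩ : Nonempty Ω := inferInstance
    rw [← MulAction.isCoatom_stabilizer_iff_preprimitive K ω] at hp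
    have hH : stabilizer K ω ≠ ⊤ := by
      intro h0
      obtain ⟨x, hx⟩ := exists_ne ω
      obtain ⟨g, rfl⟩ := MulAction.exists_smul_eq K ω x
      have h1 : g ∈ stabilizer K ω := by rw [h0]; trivial
      exact hx h1
    obtain ⟨M, hM1, hM2⟩ : ∃ M : Subgroup K, stabilizer K ω < M ∧ M ≠ ⊤ := by
      by_contra hcon
      push Not at hcon
      exact hp ⟨hH, fun M hM => hcon M hM⟩
    choose k hk using fun x : Ω => MulAction.exists_smul_eq K ω x
    let π : Ω → K ⧸ M := fun x => (k x : K ⧸ M)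
    have hπ1 : ∀ (g : K), π (g • ω) = (g : K ⧸ M) := by
      intro g
      refine QuotientGroup.eq.2 (hM1.le ?_)
      rw [mem_stabilizer_iff, mul_smul, inv_smul_eq_iff]
      exact (hk _).symm
    have hπ : ∀ (g : K) x, π (g • x) = g • π x := by
      intro g x
      obtain ⟨l, rfl⟩ := MulAction.exists_smul_eq K ω x
      rw [← mul_smul, hπ1, hπ1]
      rfl
    -- the block
    let D : Type := {x : Ω // π x = ((1 : K) : K ⧸ M)}
    have hMD : ∀ (m : M) (x : D), π ((m : K) • (x : Ω)) = ((1 : K) : K ⧸ M) := by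
      intro m x
      rw [hπ, x.2]
      change (((m : K) * 1 : K) : K ⧸ M) = _
      rw [mul_one]
      exact (QuotientGroup.eq.2 (by simp)).symm
    let actD : MulAction M D :=
      { smul := fun m x => ⟨(m : K) • (x : Ω), hMD m x⟩
        one_smul := fun x => Subtype.ext (one_smul K (x : Ω))
        mul_smul := fun m m' x => Subtype.ext (mul_smul (m : K) (m' : K) (x : Ω)) }
    have hact : ∀ (m : M) (x : D), ((m • x : D) : Ω) = (m : K) • (x : Ω) := fun m x => rfl
    have hωD : π ω = ((1 : K) : K ⧸ M) := by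
      have := hπ1 1
      rwa [one_smul] at this
    have hneD : Nonempty D := ⟨⟨ω, hωD⟩⟩
    have hmemM : ∀ g : K, (g : K ⧸ M) = ((1 : K) : K ⧸ M) → g ∈ M := by
      intro g hg
      have := QuotientGroup.eq.1 hg
      simpa using this
    have htrD : MulAction.IsPretransitive M D := by
      have h1 : ∀ x : D, ∃ m : M, m • (⟨ω, hωD⟩ : D) = x := by
        rintro ⟨x, hx⟩
        obtain ⟨g, rfl⟩ := MulAction.exists_smul_eq K ω x
        rw [hπ1] at hx
        exact ⟨⟨g, hmemM g hx⟩, rfl⟩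
      refine ⟨fun x y => ?_⟩
      obtain ⟨m, rfl⟩ := h1 x
      obtain ⟨m', rfl⟩ := h1 y
      exact ⟨m' * m⁻¹, by rw [mul_smul, inv_smul_smul]⟩
    have hDlt : Nat.card D < Nat.card Ω := by
      obtain ⟨g, hg⟩ : ∃ g : K, g ∉ M := by
        by_contra hcon
        push Not at hcon
        exact hM2 (eq_top_iff.2 fun g _ => hcon g)
      refine Finite.card_subtype_lt (x := g • ω) ?_
      rw [hπ1]
      exact fun h0 => hg (hmemM g h0)
    have hΓlt : Nat.card (K ⧸ M) < Nat.card Ω := by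
      obtain ⟨m, hm1, hm2⟩ := SetLike.exists_of_lt hM1
      have : Fintype Ω := Fintype.ofFinite _
      have : Fintype (K ⧸ M) := Fintype.ofFinite _
      rw [Nat.card_eq_fintype_card, Nat.card_eq_fintype_card]
      refine Fintype.card_lt_of_surjective_not_injective π ?_ ?_
      · intro γ
        obtain ⟨g, rfl⟩ := QuotientGroup.mk_surjective γ
        exact ⟨g • ω, hπ1 g⟩
      · intro hinj
        apply hm2
        rw [mem_stabilizer_iff]
        apply hinj
        rw [hπ1, hωD]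
        exact (QuotientGroup.eq.2 (by simpa using hm1)).symm
    obtain ⟨φ, hφ⟩ := ih (Nat.card D) (hn ▸ hDlt) M D htrD (fun L Δ _ _ _ _ f hf hL hΔ hc' =>
      h L Δ (M.subtype.comp f) (M.subtype_injective.comp hf) hL hΔ (hc'.trans hDlt.le)) rfl
    obtain ⟨ψ, hψ⟩ := ih (Nat.card (K ⧸ M)) (hn ▸ hΓlt) K (K ⧸ M) inferInstance (fun L Δ _ _ _ _ f hf hL hΔ hc' =>
      h L Δ f hf hL hΔ (hc'.trans hΓlt.le)) rfl
    classical
    have hc0 : 0 < c := by omega
    refine tower π hπ ((1 : K) : K ⧸ M) (fun γ => ?_)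
      (fun i x => if hx : π x = ((1 : K) : K ⧸ M) then φ i ⟨x, hx⟩ else ⟨0, hc0⟩) (fun i j g hg hh => ?_) ψ hψ
    · obtain ⟨g, rfl⟩ := QuotientGroup.mk_surjective γ
      refine ⟨g, ?_⟩
      change ((g * 1 : K) : K ⧸ M) = _
      rw [mul_one]
    · have hgM : g ∈ M := by
        apply hmemM
        rw [← hg]
        change _ = ((g * 1 : K) : K ⧸ M)
        rw [mul_one]
      obtain ⟨h1, h2⟩ := hφ i j ⟨g, hgM⟩ (fun x => by
        have h3 := hh x x.2
        have h4 : π (g • (x : Ω)) = ((1 : K) : K ⧸ M) := hMD ⟨g, hgM⟩ x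
        rw [dif_pos x.2, dif_pos h4] at h3
        exact h3)
      refine ⟨h1, fun x hx => ?_⟩
      exact congrArg Subtype.val (h2 ⟨x, hx⟩)

/-- **A1 (col): colouring tower.** -/
theorem col (b c : ℕ) (hc : 2 * b + 2 ≤ c) (K Ω : Type) [Group K] [Finite K] [MulAction K Ω]
    [Finite Ω] [Nonempty Ω] (htr : MulAction.IsPretransitive K Ω)
    (h : ∀ (L Δ : Type) [Group L] [Finite L] [MulAction L Δ] [Finite Δ] (f : L →* K),
      Function.Injective f → MulAction.IsPreprimitive L Δ → Nontrivial Δ →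
      Nat.card Δ ≤ Nat.card Ω → BaseLE L Δ b) :
    ∃ F : Fin c → Ω → Fin c, ∀ (i j : Fin c) (g : K), (∀ x : Ω, F i (g • x) = F j x) →
      i = j ∧ ∀ x : Ω, g • x = x := col_aux b c hc (Nat.card Ω) K Ω htr h rfl

end Cfsg.Agent.H486.B57
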